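import Cfsg.Agent.H644.KGV.Goals
import Cfsg.Agent.H500.KGV.Eig
import Cfsg.Agent.H491.KGV.Eig
import Cfsg.Agent.H719.KGV.Star
import Cfsg.Agent.H688.KGV.UIntBasic
import Cfsg.Agent.H891.KGV.TI

/-!
# The inductive step of the Gauss sum proof of the k(GV) theorem
-/

set_option autoImplicit false

universe u

namespace Cfsg.Agent.H430.KGV

open Cfsg Finset Polynomial Cfsg.Agent.H644.KGV

/-- The function which is `|H : N|` on `N` and `0` off `N` is induced from the trivial character. -/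
theorem indFun_one_normal {H : Type u} [Group H] [Fintype H] (N : Subgroup H) [hN : N.Normal]
    (h : H) [Decidable (h ∈ N)] :
    indFun N (1 : N → ℂ) h = if h ∈ N then (N.index : ℂ) else 0 := by
  classical
  have hc : (Nat.card N : ℂ) ≠ 0 := Nat.cast_ne_zero.2 Nat.card_pos.ne'
  have hx : ∀ x : H, extendByZero N (1 : N → ℂ) (x⁻¹ * h * x) = if h ∈ N then 1 else 0 := by
    intro x
    have hiff : x⁻¹ * h * x ∈ N ↔ h ∈ N := by
      constructor
      · intro h1
        have h2 := hN.conj_mem _ h1 x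
        have h3 : x * (x⁻¹ * h * x) * x⁻¹ = h := by group
        rwa [h3] at h2
      · intro h1
        have h2 := hN.conj_mem _ h1 x⁻¹
        rwa [inv_inv] at h2
    unfold extendByZero
    by_cases h1 : h ∈ N
    · rw [if_pos h1]
      exact Subtype.val_injective.extend_apply (1 : N → ℂ) 0 (⟨_, hiff.2 h1⟩ : N)
    · rw [if_neg h1, Function.extend_apply' _ _ _ (by
        rintro ⟨y, hy⟩
        exact h1 (hiff.1 (hy ▸ y.2)))]
      rfl
  unfold indFun
  rw [Finset.sum_congr rfl fun x _ => hx x]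
  by_cases h1 : h ∈ N
  · simp only [if_pos h1]
    rw [Finset.sum_const, Finset.card_univ, ← Nat.card_eq_fintype_card, ← Subgroup.card_mul_index N]
    rw [nsmul_eq_mul, mul_one]
    push_cast
    field_simp
  · simp only [if_neg h1, Finset.sum_const_zero, mul_zero]

/-- The delta function is uniformly integral. -/
theorem uint_delta {p : ℕ} [Fact p.Prime] {T : ℕ → ℕ → ZMod p} (hT : GaussSys p T)
    {H : Type u} [Group H] [Fintype H] (N : Subgroup H) [hN : N.Normal] {ℓ f : ℕ}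
    (hℓ : ℓ.Prime) (hi : N.index = ℓ) (hf : 1 ≤ f) (hd : ℓ ∣ p ^ f - 1)
    [DecidablePred fun h : H => h ∈ N] :
    UInt p H (fun a h => if h ∈ N then 1 else cG p T f ℓ a) := by
  obtain ⟨m, hm⟩ := hT.cst f ℓ hf hℓ hd
  have h1 : UInt p H (fun (_ : ZMod p) => indFun N (1 : N → ℂ)) :=
    H688.KGV.UI.congr (H688.KGV.UI.ind N (κ := fun _ => (1 : N → ℂ))
      (H688.KGV.UI.congr H688.KGV.UI.one fun a _ g => rfl)) fun a _ g => rfl
  have h2 := H688.KGV.UI.add (H688.KGV.UI.one (p := p) (G := H))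
    (H688.KGV.UI.mul (H688.KGV.UI.scalar (p := p) (G := H) m)
      (H688.KGV.UI.sub (H688.KGV.UI.intConst (p := p) (G := H) (ℓ : ℤ)) h1))
  refine H688.KGV.UI.congr h2 fun a ha h => ?_
  rw [indFun_one_normal N h]
  by_cases h3 : h ∈ N
  · rw [if_pos h3, if_pos h3, hi]
    push_cast
    ring
  · rw [if_neg h3, if_neg h3, hm a ha]
    push_cast
    ring

/-- **INDSTEP** -/
theorem indStep : IndStep.{u} := by
  classical
  intro p _ T hT H _ _ _ N hN ℓ f hpH hℓ hi hf hd φ hφ hφq F hF hκ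
  have hp : p.Prime := Fact.out
  have hℓ0 : (ℓ : ZMod p) ≠ 0 := H719.KGV.natCast_ne_zero hf hd
  have hℓp : ℓ ≠ p := by
    rintro rfl
    exact hℓ0 (by simp)
  obtain ⟨t, ht⟩ : ∃ t : H, t ∉ N := by
    by_contra hcon
    push Not at hcon
    have : N = ⊤ := (Subgroup.eq_top_iff' N).2 hcon
    rw [this, Subgroup.index_top] at hi
    exact hℓ.one_lt.ne hi
  have hcl : IsClassFunction N φ := Cfsg.Agent.Characters.Core.isCharacter_isClassFunction hφ
  have hE : ∀ a : N, IsEig φ a (eig φ a) := fun a => H500.KGV.eig_spec hφ a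
  have hpow : ∀ h : H, h ^ ℓ ∈ N := fun h => by
    rw [← hi]
    exact Subgroup.pow_index_mem N h
  have hpN : ¬ p ∣ Nat.card N := fun h => hpH (h.trans (Subgroup.card_subgroup_dvd_card N))
  -- the tensor induced family
  let κ : ZMod p → N → ℂ := fun a => kap (F a) φ
  let κ' : ZMod p → H → ℂ := fun a h =>
    if hh : h ∈ N then ∏ i ∈ range ℓ, κ a ⟨t ^ i * h * (t ^ i)⁻¹, hN.conj_mem _ hh _⟩
    else κ ((ℓ : ZMod p) * a) ⟨h ^ ℓ, hpow h⟩
  have hκ' : UInt p H κ' := by
    refine H891.KGV.tensorInd p H N ℓ hℓ hℓp hi t ht κ hκ κ' ?_ ?_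
    · intro a _ n
      show (if hh : (n : H) ∈ N then _ else _) = _
      rw [dif_pos n.2]
    · intro a _ h hh hh2
      show (if hh : (h : H) ∈ N then _ else _) = _
      rw [dif_neg hh]
  have hC := H688.KGV.UI.pow (uint_delta hT N hℓ hi hf hd) (eig φ 1).card
  refine H688.KGV.UI.congr (H688.KGV.UI.mul hκ' hC) fun a ha h => ?_
  by_cases hh : h ∈ N
  · rw [if_pos hh, one_pow, mul_one, H491.KGV.kap_ind_mem N hℓ hi ht hcl hE (F a) hh]
    show _ = (if hh : (h : H) ∈ N then _ else _)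
    rw [dif_pos hh]
  · rw [if_neg hh, H491.KGV.kap_ind_not_mem N hℓ hi hcl hE (F a) hh (hpow h)]
    have h1 : κ' a h = κ ((ℓ : ZMod p) * a) ⟨h ^ ℓ, hpow h⟩ := by
      show (if hh : (h : H) ∈ N then _ else _) = _
      rw [dif_neg hh]
    rw [h1, H719.KGV.star_multiset hT hℓ ha hf hd (hF a ha)
      (hF _ (mul_ne_zero hℓ0 ha)) hpN _ (fun z hz => H500.KGV.pow_card_of_mem_eig hz)
      (H500.KGV.eig_map_pow hφ hφq _), H500.KGV.card_eig_eq hφ _ 1]
    rfl

end Cfsg.Agent.H430.KGV
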